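import Groth.Agent.ProConsLib.Spectral
import Groth.Prelude.Def_ProCons

/-!
Pro-constructible and ind-constructible subsets of a scheme: the affine-local criterion, stability under images and
preimages, compactness.
-/

set_option autoImplicit false
universe u

open Topology TopologicalSpace Set CategoryTheory AlgebraicGeometry ProCons

namespace Groth.Agent.ProConsLib

open Groth.Agent.SpectralLib

local notation "C" => constructibleTopology

theorem spectralSpace_scheme (X : Scheme.{u}) [CompactSpace X] [QuasiSeparatedSpace X] : SpectralSpace X := { }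

theorem spectralSpace_of_isAffineOpen {X : Scheme.{u}} {U : X.Opens} (hU : IsAffineOpen U) : SpectralSpace (U : Set X) :=
  haveI : IsAffine U.toScheme := hU
  spectralSpace_scheme U.toScheme

theorem isLocallyConstructible_compl {X : Type*} [TopologicalSpace X] {s : Set X} (hs : IsLocallyConstructible s) :
    IsLocallyConstructible sᶜ := fun x =>
  have ⟨V, hV, hVo, h⟩ := hs x
  ⟨V, hV, hVo, h.compl⟩

theorem isIndConstructible_iff_compl {X : Type*} [TopologicalSpace X] {E : Set X} :
    IsIndConstructible E ↔ IsProConstructible Eᶜ := by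
  refine forall_congr' fun x => exists_congr fun U => and_congr_right' (and_congr_right' ⟨?_, ?_⟩)
  · rintro ⟨S, hS, h⟩
    exact ⟨compl '' S, by rintro _ ⟨T, hT, rfl⟩; exact isLocallyConstructible_compl (hS T hT), by rw [preimage_compl, h, compl_sUnion]⟩
  · rintro ⟨S, hS, h⟩
    exact ⟨compl '' S, by rintro _ ⟨T, hT, rfl⟩; exact isLocallyConstructible_compl (hS T hT),
      by rw [← compl_compl (Subtype.val ⁻¹' E), ← preimage_compl, h, compl_sInter]⟩

theorem isProConstructible_iff_compl {X : Type*} [TopologicalSpace X] {E : Set X} :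
    IsProConstructible E ↔ IsIndConstructible Eᶜ := by rw [isIndConstructible_iff_compl, compl_compl]

variable {X Y : Scheme.{u}}

/-- Local criterion. -/
theorem isProConstructible_of_cover (E : Set X)
    (h : ∀ x : X, ∃ U : X.Opens, IsAffineOpen U ∧ x ∈ U ∧ IsClosed[C (U : Set X)] ((Subtype.val : ↥(U : Set X) → X) ⁻¹' E)) :
    IsProConstructible E := by
  intro x
  obtain ⟨U, hU, hxU, hE⟩ := h x
  haveI := spectralSpace_of_isAffineOpen hU
  obtain ⟨S, hS, hSE⟩ := exists_sInter_eq hE
  exact ⟨U, U.2, hxU, S, fun T hT => (hS T hT).isLocallyConstructible, hSE⟩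

theorem isClosed_trace {E : Set X} (hE : IsProConstructible E) {U : X.Opens} (hU : IsAffineOpen U) :
    IsClosed[C (U : Set X)] ((Subtype.val : ↥(U : Set X) → X) ⁻¹' E) := by
  haveI := spectralSpace_of_isAffineOpen hU
  have key : ∀ x : (U : Set X), ∃ W : Set (U : Set X), x ∈ W ∧ IsOpen W ∧ IsCompact W ∧
      IsClosed[C (U : Set X)] (W ∩ (Subtype.val : ↥(U : Set X) → X) ⁻¹' E) := by
    intro x
    obtain ⟨V, hVo, hxV, S, hS, hSE⟩ := hE x.1
    obtain ⟨W, ⟨hWo, hWc⟩, hxW, hWV⟩ := PrespectralSpace.isTopologicalBasis.exists_subset_of_mem_open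
      (show x ∈ (Subtype.val : ↥(U : Set X) → X) ⁻¹' V from hxV) (hVo.preimage continuous_subtype_val)
    obtain ⟨hWs, hval⟩ := spectralSpace_of_isClosed (isClosed_C_of_compactOpen hWo hWc)
    haveI := hWs
    let j : W → V := fun w => ⟨w.1.1, hWV w.2⟩
    have hj : IsOpenEmbedding j := IsOpenEmbedding.of_comp _ hVo.isOpenEmbedding_subtypeVal
      (U.2.isOpenEmbedding_subtypeVal.comp hWo.isOpenEmbedding_subtypeVal)
    have hcl : IsClosed[C W] (j ⁻¹' (Subtype.val ⁻¹' E)) := by
      rw [hSE, preimage_sInter]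
      exact @isClosed_biInter W _ (C W) _ _ fun T hT =>
        (isClopen_C_of_isConstructible ((hS T hT).preimage_of_isOpenEmbedding hj).isConstructible).1
    refine ⟨W, hxW, hWo, hWc, ?_⟩
    have := ProConsLib.isClosed_image hval hcl
    rwa [show Subtype.val '' (j ⁻¹' (Subtype.val ⁻¹' E)) = W ∩ (Subtype.val : ↥(U : Set X) → X) ⁻¹' E from
      Subtype.image_preimage_coe W ((Subtype.val : ↥(U : Set X) → X) ⁻¹' E)] at this
  choose W hxW hWo hWc hW using key
  obtain ⟨σ, hσ⟩ := isCompact_univ.elim_finite_subcover W hWo fun x _ => mem_iUnion.2 ⟨x, hxW x⟩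
  rw [show ((Subtype.val : ↥(U : Set X) → X) ⁻¹' E) = ⋃ i ∈ σ, W i ∩ (Subtype.val : ↥(U : Set X) → X) ⁻¹' E by
    rw [← iUnion₂_inter, univ_subset_iff.1 hσ, univ_inter]]
  exact @Set.Finite.isClosed_biUnion _ _ (C ↥(U : Set X)) _ _ σ.finite_toSet fun i _ => hW i

theorem isProConstructible_iff (E : Set X) :
    IsProConstructible E ↔ ∀ U : X.Opens, IsAffineOpen U → IsClosed[C (U : Set X)] ((Subtype.val : ↥(U : Set X) → X) ⁻¹' E) := by
  refine ⟨fun h U hU => isClosed_trace h hU, fun h => isProConstructible_of_cover E fun x => ?_⟩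
  obtain ⟨U, hU, hxU, -⟩ := exists_isAffineOpen_mem_and_subset (Opens.mem_top x)
  exact ⟨U, hU, hxU, h U hU⟩

theorem isIndConstructible_iff (E : Set X) :
    IsIndConstructible E ↔ ∀ U : X.Opens, IsAffineOpen U → IsOpen[C (U : Set X)] ((Subtype.val : ↥(U : Set X) → X) ⁻¹' E) := by
  rw [isIndConstructible_iff_compl, isProConstructible_iff]
  exact forall₂_congr fun U _ => @isClosed_compl_iff (U : Set X) (C (U : Set X)) _

theorem isLocallyConstructible_iff_pro_and_ind (E : Set X) :
    IsLocallyConstructible E ↔ IsProConstructible E ∧ IsIndConstructible E := by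
  constructor
  · intro h
    rw [isProConstructible_iff, isIndConstructible_iff]
    refine ⟨fun U hU => ?_, fun U hU => ?_⟩ <;> haveI := spectralSpace_of_isAffineOpen hU
    · exact (isClopen_C_of_isConstructible (h.preimage_of_isOpenEmbedding U.2.isOpenEmbedding_subtypeVal).isConstructible).1
    · exact (isClopen_C_of_isConstructible (h.preimage_of_isOpenEmbedding U.2.isOpenEmbedding_subtypeVal).isConstructible).2
  · rintro ⟨hp, hi⟩
    refine IsLocallyConstructible.of_isOpenCover (U := fun U : X.affineOpens => (U : X.Opens))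
      (iSup_affineOpens_eq_top X) fun U => ?_
    haveI := spectralSpace_of_isAffineOpen U.2
    exact (isConstructible_of_clopen ((isIndConstructible_iff E).1 hi U U.2) (isClosed_trace hp U.2)).isLocallyConstructible

theorem isSpectralMap_resLE (f : X ⟶ Y) {U : Y.Opens} {V : X.Opens} (hU : IsAffineOpen U) (hV : IsAffineOpen V)
    (e : V ≤ f ⁻¹ᵁ U) : IsSpectralMap (fun v : (V : Set X) => (⟨f.base v.1, e v.2⟩ : (U : Set Y))) := by
  haveI : IsAffine U.toScheme := hU
  haveI : IsAffine V.toScheme := hV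
  have h : (fun v : (V : Set X) => (⟨f.base v.1, e v.2⟩ : (U : Set Y))) = (f.resLE U V e).base :=
    funext fun v => Subtype.ext (Scheme.Hom.coe_resLE_apply f e v).symm
  rw [h]
  exact (f.resLE U V e).isSpectralMap

theorem isProConstructible_preimage (f : X ⟶ Y) {T : Set Y} (hT : IsProConstructible T) :
    IsProConstructible (f.base ⁻¹' T) := by
  refine isProConstructible_of_cover _ fun x => ?_
  obtain ⟨U, hU, hxU, -⟩ := exists_isAffineOpen_mem_and_subset (Opens.mem_top (f.base x))
  obtain ⟨V, hV, hxV, hVU⟩ := exists_isAffineOpen_mem_and_subset (U := f ⁻¹ᵁ U) (x := x) hxU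
  exact ⟨V, hV, hxV, @IsClosed.preimage (V : Set X) (U : Set Y) (C _) (C _) (fun v => ⟨f.base v.1, hVU v.2⟩)
    (continuous_C (isSpectralMap_resLE f hU hV hVU)) _ (isClosed_trace hT hU)⟩

theorem isIndConstructible_preimage (f : X ⟶ Y) {T : Set Y} (hT : IsIndConstructible T) :
    IsIndConstructible (f.base ⁻¹' T) := by
  rw [isIndConstructible_iff_compl] at hT ⊢
  exact isProConstructible_preimage f hT

theorem isProConstructible_image (f : X ⟶ Y) [QuasiCompact f] {E : Set X} (hE : IsProConstructible E) :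
    IsProConstructible (f.base '' E) := by
  rw [isProConstructible_iff]
  intro U hU
  haveI := spectralSpace_of_isAffineOpen hU
  choose V hV hxV hVU using fun x : (f ⁻¹ᵁ U : X.Opens) =>
    exists_isAffineOpen_mem_and_subset (U := f ⁻¹ᵁ U) x.2
  obtain ⟨σ, hσ⟩ := (f.isCompact_preimage hU.isCompact).elim_finite_subcover (fun x => (V x : Set X))
    (fun x => (V x).2) fun x hx => mem_iUnion.2 ⟨⟨x, hx⟩, hxV ⟨x, hx⟩⟩
  rw [show (Subtype.val : ↥(U : Set Y) → Y) ⁻¹' (f.base '' E) = ⋃ i ∈ σ,
      (fun v : (V i : Set X) => (⟨f.base v.1, hVU i v.2⟩ : (U : Set Y))) '' ((Subtype.val : ↥(V i : Set X) → X) ⁻¹' E) from ?_]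
  · exact @Set.Finite.isClosed_biUnion _ _ (C ↥(U : Set Y)) _ _ σ.finite_toSet fun i _ =>
      haveI := spectralSpace_of_isAffineOpen (hV i)
      ProConsLib.isClosed_image (isSpectralMap_resLE f hU (hV i) (hVU i)) (isClosed_trace hE (hV i))
  · ext ⟨y, hy⟩
    simp only [mem_preimage, mem_image, mem_iUnion, exists_prop]
    constructor
    · rintro ⟨x, hx, rfl⟩
      obtain ⟨i, hi, hxi⟩ := mem_iUnion₂.1 (hσ (show x ∈ f ⁻¹ᵁ U from hy))
      exact ⟨i, hi, ⟨x, hxi⟩, hx, rfl⟩
    · rintro ⟨i, -, v, hv, h⟩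
      exact ⟨v.1, hv, congrArg Subtype.val h⟩

theorem isIndConstructible_image (f : X ⟶ Y) [LocallyOfFinitePresentation f] {E : Set X} (hE : IsIndConstructible E) :
    IsIndConstructible (f.base '' E) := by
  rw [isIndConstructible_iff]
  intro U hU
  have hUs := spectralSpace_of_isAffineOpen hU
  refine (@isOpen_iff_forall_mem_open (U : Set Y) (C (U : Set Y)) _).2 ?_
  rintro ⟨y, hy⟩ ⟨x, hx, hxy⟩
  obtain rfl : f.base x = y := hxy
  obtain ⟨V, hV, hxV, hVU⟩ := exists_isAffineOpen_mem_and_subset (U := f ⁻¹ᵁ U) (x := x) hy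
  haveI := spectralSpace_of_isAffineOpen hV
  haveI : IsAffine U.toScheme := hU
  haveI : IsAffine V.toScheme := hV
  obtain ⟨T, hT, hxT, hTE⟩ := exists_constructible_subset ((isIndConstructible_iff E).1 hE V hV)
    (show (⟨x, hxV⟩ : (V : Set X)) ∈ (Subtype.val : ↥(V : Set X) → X) ⁻¹' E from hx)
  have himg : IsConstructible ((f.resLE U V hVU).base '' T) := (f.resLE U V hVU).isConstructible_image hT
  refine ⟨(f.resLE U V hVU).base '' T, ?_, ((@isClopen_C_of_isConstructible ↥(U : Set Y) _ hUs _ himg).2 :), ⟨⟨x, hxV⟩, hxT, ?_⟩⟩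
  · rintro _ ⟨v, hv, rfl⟩
    exact ⟨v.1, hTE hv, (Scheme.Hom.coe_resLE_apply f hVU v).symm⟩
  · exact Subtype.ext (Scheme.Hom.coe_resLE_apply f hVU ⟨x, hxV⟩)

/-- A family of pro-constructible subsets of a quasi-compact scheme with empty intersection has a finite
subfamily with empty intersection. -/
theorem exists_finset_iInter_eq_empty [CompactSpace X] {ι : Type*} (F : ι → Set X) (hF : ∀ i, IsProConstructible (F i))
    (h : ⋂ i, F i = ∅) : ∃ J : Finset ι, ⋂ i ∈ J, F i = ∅ := by
  classical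
  have hcov : ∀ x : X, ∃ U : X.Opens, IsAffineOpen U ∧ x ∈ U := fun x =>
    (exists_isAffineOpen_mem_and_subset (Opens.mem_top x)).imp fun U h => ⟨h.1, h.2.1⟩
  choose U hU hxU using hcov
  obtain ⟨σ, hσ⟩ := isCompact_univ.elim_finite_subcover (fun x => (U x : Set X)) (fun x => (U x).2)
    fun x _ => mem_iUnion.2 ⟨x, hxU x⟩
  have key : ∀ x, ∃ J : Finset ι, ⋂ i ∈ J, (Subtype.val : ↥(U x : Set X) → X) ⁻¹' F i = ∅ := fun x => by
    haveI := spectralSpace_of_isAffineOpen (hU x)
    by_contra! H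
    obtain ⟨z, hz⟩ := nonempty_iInter (fun i => (Subtype.val : ↥(U x : Set X) → X) ⁻¹' F i) (fun i => isClosed_trace (hF i) (hU x)) H
    have : (z : X) ∈ ⋂ i, F i := mem_iInter.2 fun i => mem_iInter.1 hz i
    rw [h] at this
    exact this
  choose J hJ using key
  refine ⟨σ.biUnion J, eq_empty_iff_forall_notMem.2 fun z hz => ?_⟩
  obtain ⟨x, hx, hzx⟩ := mem_iUnion₂.1 (hσ (mem_univ z))
  refine (eq_empty_iff_forall_notMem.1 (hJ x)) ⟨z, hzx⟩ (mem_iInter₂.2 fun i hi => ?_)
  exact mem_iInter₂.1 hz i (Finset.mem_biUnion.2 ⟨x, hx, hi⟩)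

/-- For a quasi-separated scheme the ind-constructible subsets are the open sets of the constructible topology. -/
theorem isIndConstructible_iff_isOpen [QuasiSeparatedSpace X] (E : Set X) :
    IsIndConstructible E ↔ IsOpen[C X] E := by
  rw [isIndConstructible_iff]
  constructor
  · intro h
    refine (@isOpen_iff_forall_mem_open X (C X) E).2 fun x hx => ?_
    obtain ⟨U, hU, hxU, -⟩ := exists_isAffineOpen_mem_and_subset (Opens.mem_top x)
    haveI := spectralSpace_of_isAffineOpen hU
    exact ⟨Subtype.val '' ((Subtype.val : ↥(U : Set X) → X) ⁻¹' E), Set.image_preimage_subset _ _,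
      isOpen_image_of_isOpenEmbedding U.2.isOpenEmbedding_subtypeVal (h U hU), ⟨x, hxU⟩, hx, rfl⟩
  · intro h U hU
    exact @IsOpen.preimage (U : Set X) X (C _) (C X) _ (continuous_C ⟨continuous_subtype_val, fun K hKo hKc => by
      rw [IsInducing.subtypeVal.isCompact_iff, Subtype.image_preimage_coe]
      exact QuasiSeparatedSpace.inter_isCompact _ _ U.2 hU.isCompact hKo hKc⟩) _ h

theorem isProConstructible_iff_isClosed [QuasiSeparatedSpace X] (E : Set X) :
    IsProConstructible E ↔ IsClosed[C X] E := by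
  rw [isProConstructible_iff_compl, isIndConstructible_iff_isOpen, @isOpen_compl_iff X E (C X)]

end Groth.Agent.ProConsLib
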