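import Groth.Agent.ProConsLib.Scheme

/-!
Pro-constructible sets as images of affine schemes.
-/

set_option autoImplicit false
universe u

open Topology TopologicalSpace Set CategoryTheory AlgebraicGeometry ProCons CategoryTheory.Limits

namespace Groth.Agent.ProConsLib

open Groth.Agent.SpectralLib

local notation "C" => constructibleTopology

theorem isSpectralMap_comap {A B : Type u} [CommRing A] [CommRing B] (f : A →+* B) :
    IsSpectralMap (PrimeSpectrum.comap f) :=
  (Spec.map (CommRingCat.ofHom f)).isSpectralMap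

/-- A constructibly closed subset `E` of `Spec A` is the image of the spectrum of the product of its residue fields. -/
theorem range_comap_pi {A : Type u} [CommRing A] {E : Set (PrimeSpectrum A)} (hE : IsClosed[C (PrimeSpectrum A)] E) :
    range (PrimeSpectrum.comap (Pi.ringHom fun p : E => algebraMap A p.1.asIdeal.ResidueField)) = E := by
  classical
  set φ := Pi.ringHom fun p : E => algebraMap A p.1.asIdeal.ResidueField
  refine subset_antisymm ?_ fun p hp => ?_
  · rintro _ ⟨q, rfl⟩
    by_contra hp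
    obtain ⟨T, hT, hpT, hTE⟩ := exists_constructible_subset ((@isOpen_compl_iff _ E (C _)).2 hE) hp
    obtain ⟨S, rfl⟩ := PrimeSpectrum.exists_constructibleSetData_iff.2 hT
    simp only [PrimeSpectrum.ConstructibleSetData.toSet, mem_iUnion, exists_prop] at hpT
    obtain ⟨D, hD, hg, hf⟩ := hpT
    rw [PrimeSpectrum.mem_zeroLocus, range_subset_iff] at hg
    rw [PrimeSpectrum.mem_zeroLocus, singleton_subset_iff] at hf
    let a : Fin D.n → (∀ p : E, p.1.asIdeal.ResidueField) := fun i p => 1 - φ (D.g i) p * (φ (D.g i) p)⁻¹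
    have ha : ∀ i, a i ∉ q.asIdeal := fun i h => q.isPrime.ne_top ((Ideal.eq_top_iff_one _).2 (by
      have h2 : φ (D.g i) * (fun p => (φ (D.g i) p)⁻¹) ∈ q.asIdeal := Ideal.mul_mem_right _ _ (hg i)
      convert! add_mem h h2 using 1
      ext p
      simp [a]))
    have hprod : φ D.f * ∏ i, a i = 0 := by
      funext p
      rw [Pi.mul_apply, Finset.prod_apply, Pi.zero_apply]
      by_cases hfp : D.f ∈ p.1.asIdeal
      · rw [show φ D.f p = 0 from Ideal.algebraMap_residueField_eq_zero.2 hfp, zero_mul]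
      · obtain ⟨i, hi⟩ : ∃ i, D.g i ∉ p.1.asIdeal := by
          by_contra! H
          refine hTE (mem_iUnion₂.2 ⟨D, hD, ?_, ?_⟩) p.2
          · rw [PrimeSpectrum.mem_zeroLocus, range_subset_iff]; exact H
          · rw [PrimeSpectrum.mem_zeroLocus, singleton_subset_iff]; exact hfp
        have hne : φ (D.g i) p ≠ 0 := fun h => hi (Ideal.algebraMap_residueField_eq_zero.1 h)
        refine mul_eq_zero_of_right _ (Finset.prod_eq_zero (Finset.mem_univ i) ?_)
        simp [a, mul_inv_cancel₀ hne]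
    rcases q.isPrime.mem_or_mem (show φ D.f * ∏ i, a i ∈ q.asIdeal by rw [hprod]; exact zero_mem _) with h | h
    · exact hf h
    · obtain ⟨i, -, hi⟩ := q.isPrime.prod_mem_iff.1 h
      exact ha i hi
  · refine ⟨PrimeSpectrum.comap (Pi.evalRingHom (fun p : E => p.1.asIdeal.ResidueField) ⟨p, hp⟩) ⊥, ?_⟩
    ext x
    exact Ideal.algebraMap_residueField_eq_zero

theorem exists_affine_range_eq {X : Scheme.{u}} [CompactSpace X] {E : Set X} (hE : IsProConstructible E) :
    ∃ (X' : Scheme.{u}) (f : X' ⟶ X), IsAffine X' ∧ range f.base = E := by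
  let 𝒰 := X.affineCover.finiteSubcover
  have hcl : ∀ i, ∃ (B : CommRingCat.{u}) (g : Spec B ⟶ 𝒰.X i), range g.base = (𝒰.f i).base ⁻¹' E := by
    intro i
    haveI : IsAffine (𝒰.X i) := inferInstanceAs (IsAffine (Spec _))
    let e := (𝒰.X i).isoSpec
    have hpre := isProConstructible_preimage (e.inv ≫ 𝒰.f i) hE
    rw [isProConstructible_iff_isClosed] at hpre
    refine ⟨_, Spec.map (CommRingCat.ofHom (Pi.ringHom fun p : ((e.inv ≫ 𝒰.f i).base ⁻¹' E) =>
      algebraMap Γ(𝒰.X i, ⊤) p.1.asIdeal.ResidueField)) ≫ e.inv, ?_⟩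
    show range (e.inv.base ∘ PrimeSpectrum.comap _) = _
    rw [range_comp]
    erw [range_comap_pi hpre]
    exact image_preimage_eq ((𝒰.f i).base ⁻¹' E) e.inv.homeomorph.surjective
  choose B g hg using hcl
  refine ⟨∐ fun i => Spec (B i), Sigma.desc fun i => g i ≫ 𝒰.f i, inferInstance, ?_⟩
  ext x
  constructor
  · rintro ⟨z, rfl⟩
    obtain ⟨i, w, rfl⟩ := (sigmaOpenCover fun i => Spec (B i)).exists_eq z
    show (Sigma.ι (fun i => Spec (B i)) i ≫ Sigma.desc fun i => g i ≫ 𝒰.f i).base w ∈ E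
    rw [Sigma.ι_desc]
    exact (hg i).subset ⟨w, rfl⟩
  · intro hx
    obtain ⟨i, y, rfl⟩ := 𝒰.exists_eq x
    obtain ⟨w, rfl⟩ := (hg i).superset hx
    refine ⟨(Sigma.ι (fun i => Spec (B i)) i).base w, ?_⟩
    show (Sigma.ι (fun i => Spec (B i)) i ≫ Sigma.desc fun i => g i ≫ 𝒰.f i).base w = _
    rw [Sigma.ι_desc]
    rfl

end Groth.Agent.ProConsLib
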