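import Groth.Agent.ProConsLib.Scheme

/-!
The constructible topology of a quasi-separated scheme.
-/

set_option autoImplicit false
universe u

open Topology TopologicalSpace Set CategoryTheory AlgebraicGeometry ProCons

namespace Groth.Agent.ProConsLib

open Groth.Agent.SpectralLib

local notation "C" => constructibleTopology

variable {X Y : Scheme.{u}}

theorem spectralSpace_of_isCompact [QuasiSeparatedSpace X] {U : X.Opens} (hU : IsCompact (U : Set X)) :
    SpectralSpace (U : Set X) :=
  haveI : CompactSpace U.toScheme := isCompact_iff_compactSpace.1 hU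
  haveI : QuasiSeparatedSpace U.toScheme := QuasiSeparatedSpace.of_isOpenEmbedding U.2.isOpenEmbedding_subtypeVal
  spectralSpace_scheme U.toScheme

theorem isCompact_C [QuasiSeparatedSpace X] {U : Set X} (ho : IsOpen U) (hc : IsCompact U) :
    @IsCompact X (C X) U := by
  haveI := spectralSpace_of_isCompact (U := ⟨U, ho⟩) hc
  have hval : IsSpectralMap (Subtype.val : U → X) := ⟨continuous_subtype_val, fun K hKo hKc => by
    rw [IsInducing.subtypeVal.isCompact_iff, Subtype.image_preimage_coe]
    exact QuasiSeparatedSpace.inter_isCompact _ _ ho hc hKo hKc⟩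
  have h := @IsCompact.image U X (C U) (C X) univ Subtype.val
    (isCompact_C_of_isClosed (X := U) (@isClosed_univ U (C U))) (continuous_C hval)
  rwa [image_univ, Subtype.range_coe] at h

theorem locallyCompactSpace_C [QuasiSeparatedSpace X] : @LocallyCompactSpace X (C X) := by
  refine @WeaklyLocallyCompactSpace.locallyCompactSpace X (C X)
    (@T2Space.r1Space X (C X) t2Space_C) (@WeaklyLocallyCompactSpace.mk X (C X) fun x => ?_)
  obtain ⟨U, hU, hxU, -⟩ := exists_isAffineOpen_mem_and_subset (Opens.mem_top x)
  exact ⟨U, isCompact_C U.2 hU.isCompact, (@IsOpen.mem_nhds X (C X) x _ (isOpen_C_of_isOpen U.2) hxU)⟩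

theorem continuous_base [QuasiSeparatedSpace X] [QuasiSeparatedSpace Y] (f : X ⟶ Y) :
    Continuous[C X, C Y] f.base :=
  @Continuous.mk X Y (C X) (C Y) f.base fun _ hs =>
    (isIndConstructible_iff_isOpen _).1 (isIndConstructible_preimage f ((isIndConstructible_iff_isOpen _).2 hs))

theorem quasiCompact_iff_isProperMap [QuasiSeparatedSpace X] [QuasiSeparatedSpace Y] (f : X ⟶ Y) :
    QuasiCompact f ↔ @IsProperMap X Y (C X) (C Y) f.base := by
  haveI hT : @T2Space Y (C Y) := t2Space_C
  haveI hL : @LocallyCompactSpace Y (C Y) := locallyCompactSpace_C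
  constructor
  · intro hf
    refine (@isProperMap_iff_isCompact_preimage X Y (C X) (C Y) hT inferInstance f.base).2 ⟨continuous_base f, fun K hK => ?_⟩
    choose U hU hxU using fun y : Y => (exists_isAffineOpen_mem_and_subset (Opens.mem_top y)).imp
      fun U (h : IsAffineOpen U ∧ y ∈ U ∧ _) => And.intro h.1 h.2.1
    obtain ⟨σ, hσ⟩ := @IsCompact.elim_finite_subcover Y (C Y) K _ hK (fun y => (U y : Set Y))
      (fun y => isOpen_C_of_isOpen (U y).2) fun y _ => mem_iUnion.2 ⟨y, hxU y⟩
    refine @IsCompact.of_isClosed_subset X (C X) _ _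
      (@Set.Finite.isCompact_biUnion X _ (C X) _ (fun y => f.base ⁻¹' (U y : Set Y)) σ.finite_toSet
        fun y _ => isCompact_C ((U y).2.preimage f.continuous) (f.isCompact_preimage (hU y).isCompact))
      (@IsClosed.preimage X Y (C X) (C Y) _ (continuous_base f) _ (@IsCompact.isClosed Y (C Y) hT K hK)) ?_
    intro x hx
    obtain ⟨y, hy, hxy⟩ := mem_iUnion₂.1 (hσ hx)
    exact mem_iUnion₂.2 ⟨y, hy, hxy⟩
  · intro h
    exact ⟨fun U ho hc => isCompact_of_isCompact_C
      (@IsProperMap.isCompact_preimage X Y (C X) (C Y) _ h _ (isCompact_C ho hc))⟩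

/-- `WithTopology` is homeomorphic to the original type with that topology. -/
def withTopologyHomeomorph {X : Type*} (t : TopologicalSpace X) : @Homeomorph (WithTopology X t) X _ t :=
  @Homeomorph.mk _ _ _ t (WithTopology.equiv X t) (WithTopology.continuous_ofTopology t) (WithTopology.continuous_toTopology t)

theorem t2_locallyCompact_totallyDisconnected [QuasiSeparatedSpace X] :
    T2Space (WithConstructibleTopology X) ∧ LocallyCompactSpace (WithConstructibleTopology X) ∧
      TotallyDisconnectedSpace (WithConstructibleTopology X) := by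
  let e := withTopologyHomeomorph (C X)
  refine ⟨@Homeomorph.t2Space X (WithConstructibleTopology X) (C X) _ t2Space_C (@Homeomorph.symm _ _ _ (C X) e),
    @Homeomorph.locallyCompactSpace_iff (WithConstructibleTopology X) X _ (C X) e |>.2 locallyCompactSpace_C, ?_⟩
  haveI := @TotallySeparatedSpace.totallyDisconnectedSpace X (C X) totallySeparatedSpace_C
  exact @Homeomorph.totallyDisconnectedSpace X (WithConstructibleTopology X) (C X) _ (@Homeomorph.symm _ _ _ (C X) e) this

end Groth.Agent.ProConsLib
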