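import Groth.Agent.SpectralLib.Basic

/-!
Constructible subsets of a spectral space versus the constructible topology.
-/

set_option autoImplicit false
universe u v

open Topology TopologicalSpace Set

namespace Groth.Agent.ProConsLib

open Groth.Agent.SpectralLib

variable {X : Type u} [TopologicalSpace X] {Y : Type v} [TopologicalSpace Y]

local notation "C" => constructibleTopology

theorem isConstructible_of_compactOpen [QuasiSeparatedSpace X] {K : Set X} (ho : IsOpen K) (hc : IsCompact K) :
    IsConstructible K :=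
  IsRetrocompact.isConstructible ho (fun U hU hUo => QuasiSeparatedSpace.inter_isCompact K U ho hc hUo hU)

theorem exists_constructible_subset [QuasiSeparatedSpace X] {s : Set X} (hs : IsOpen[C X] s) {x : X} (hx : x ∈ s) :
    ∃ T : Set X, IsConstructible T ∧ x ∈ T ∧ T ⊆ s := by
  induction hs generalizing x with
  | basic t ht =>
    refine ⟨t, ?_, hx, subset_rfl⟩
    rcases ht with ⟨ho, hc⟩ | ⟨hcl, hc⟩
    · exact isConstructible_of_compactOpen ho hc
    · exact isConstructible_compl.1 (isConstructible_of_compactOpen hcl.isOpen_compl hc)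
  | univ => exact ⟨univ, .univ, hx, subset_rfl⟩
  | inter a b _ _ iha ihb =>
    obtain ⟨T, hT, hxT, hTa⟩ := iha hx.1
    obtain ⟨T', hT', hxT', hTb⟩ := ihb hx.2
    exact ⟨T ∩ T', hT.inter hT', ⟨hxT, hxT'⟩, inter_subset_inter hTa hTb⟩
  | sUnion S _ ih =>
    obtain ⟨t, ht, hxt⟩ := hx
    obtain ⟨T, hT, hxT, hTt⟩ := ih t ht hxt
    exact ⟨T, hT, hxT, hTt.trans (subset_sUnion_of_mem ht)⟩

theorem isConstructible_of_clopen [SpectralSpace X] {s : Set X} (ho : IsOpen[C X] s) (hc : IsClosed[C X] s) :
    IsConstructible s := by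
  choose T hT hxT hTs using fun x : s => exists_constructible_subset ho x.2
  obtain ⟨σ, hσ⟩ := @IsCompact.elim_finite_subcover X (C X) s _ (isCompact_C_of_isClosed hc) T
    (fun i => (isClopen_C_of_isConstructible (hT i)).2) (fun x hx => mem_iUnion.2 ⟨⟨x, hx⟩, hxT ⟨x, hx⟩⟩)
  rw [show s = ⋃ i ∈ σ, T i from subset_antisymm hσ (iUnion₂_subset fun i _ => hTs i)]
  exact IsConstructible.biUnion σ.finite_toSet fun i _ => hT i

theorem exists_sUnion_eq [QuasiSeparatedSpace X] {s : Set X} (hs : IsOpen[C X] s) :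
    ∃ S : Set (Set X), (∀ T ∈ S, IsConstructible T) ∧ s = ⋃₀ S :=
  ⟨{T | IsConstructible T ∧ T ⊆ s}, fun _ h => h.1, subset_antisymm
    (fun _ hx => let ⟨T, hT, hxT, hTs⟩ := exists_constructible_subset hs hx; ⟨T, ⟨hT, hTs⟩, hxT⟩)
    (sUnion_subset fun _ h => h.2)⟩

theorem exists_sInter_eq [QuasiSeparatedSpace X] {s : Set X} (hs : IsClosed[C X] s) :
    ∃ S : Set (Set X), (∀ T ∈ S, IsConstructible T) ∧ s = ⋂₀ S := by
  obtain ⟨S, hS, h⟩ := exists_sUnion_eq ((@isOpen_compl_iff X s (C X)).2 hs)
  refine ⟨compl '' S, ?_, ?_⟩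
  · rintro _ ⟨T, hT, rfl⟩
    exact (hS T hT).compl
  · rw [← compl_compl s, h, compl_sUnion]

theorem isClosed_sInter [SpectralSpace X] {S : Set (Set X)} (hS : ∀ T ∈ S, IsConstructible T) :
    IsClosed[C X] (⋂₀ S) :=
  @_root_.isClosed_sInter X (C X) S fun T hT => (isClopen_C_of_isConstructible (hS T hT)).1

theorem isClosed_image [SpectralSpace X] [T0Space Y] [PrespectralSpace Y] {f : X → Y} (hf : IsSpectralMap f)
    {s : Set X} (hs : IsClosed[C X] s) : IsClosed[C Y] (f '' s) :=
  @IsCompact.isClosed Y (C Y) t2Space_C _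
    (@IsCompact.image X Y (C X) (C Y) s f (isCompact_C_of_isClosed hs) (continuous_C hf))

theorem isSpectralMap_of_constructible [SpectralSpace X] [SpectralSpace Y] {f : X → Y} (hf : Continuous f)
    (h : ∀ K, IsOpen K → IsCompact K → IsConstructible (f ⁻¹' K)) : IsSpectralMap f :=
  ⟨hf, fun _ ho hc => isCompact_of_isClosed_C (isClopen_C_of_isConstructible (h _ ho hc)).1⟩

/-- An open embedding with quasi-separated target of a compact-open set is open for the constructible topologies. -/
theorem isOpen_image_of_isOpenEmbedding [CompactSpace X] [QuasiSeparatedSpace Y] {f : X → Y}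
    (hf : IsOpenEmbedding f) {s : Set X} (hs : IsOpen[C X] s) : IsOpen[C Y] (f '' s) := by
  have hr : IsOpen[C Y] (range f) := isOpen_C_of_compactOpen hf.isOpen_range (isCompact_range hf.continuous)
  induction hs with
  | basic t ht =>
    rcases ht with ⟨ho, hc⟩ | ⟨hcl, hc⟩
    · exact isOpen_C_of_compactOpen (hf.isOpenMap _ ho) (hc.image hf.continuous)
    · rw [← compl_compl t, Set.image_compl_eq_range_sdiff_image hf.injective]
      exact @IsOpen.inter Y (C Y) (range f) _ hr ((@isOpen_compl_iff Y _ (C Y)).2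
        (isClosed_C_of_compactOpen (hf.isOpenMap _ hcl.isOpen_compl) (hc.image hf.continuous)))
  | univ => rwa [image_univ]
  | inter a b _ _ iha ihb =>
    rw [image_inter hf.injective]
    exact @IsOpen.inter Y (C Y) _ _ iha ihb
  | sUnion S _ ih =>
    rw [image_sUnion]
    exact @isOpen_sUnion Y (C Y) _ (by rintro _ ⟨t, ht, rfl⟩; exact ih t ht)

end Groth.Agent.ProConsLib
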